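import Mathlib

/-!
# Completing a split family to generators of an ideal near a prime
-/

set_option autoImplicit false
set_option linter.style.haveILetI false

universe u

namespace Groth.Agent.ConormalSplitLib

/-- Rows with a right inverse are completed to a spanning family by standard vectors. -/
theorem exists_complement {K : Type u} [Field K] {r n : ℕ} (v : Fin r → Fin n → K) (d : Fin n → Fin r → K)
    (h1 : ∀ k m, ∑ l, v k l * d l m = if k = m then 1 else 0) :
    ∃ T : Finset (Fin n), T.card + r ≤ n ∧ ∀ l, ∃ (a : Fin r → K) (b : Fin n → K),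
      (Pi.single l 1 : Fin n → K) = (∑ k, a k • v k) + ∑ t ∈ T, b t • (Pi.single t 1 : Fin n → K) := by
  classical
  have hv : LinearIndependent K v := by
    rw [Fintype.linearIndependent_iff]
    intro a ha m
    have h2 : ∑ l, (∑ k, a k • v k) l * d l m = 0 := by rw [ha]; simp
    simp only [Finset.sum_apply, Pi.smul_apply, smul_eq_mul, Finset.sum_mul, mul_assoc] at h2
    rw [Finset.sum_comm] at h2
    simpa [← Finset.mul_sum, h1] using h2
  let e : Fin n → Fin n → K := fun l => Pi.single l 1
  let ebar : Fin n → (Fin n → K) ⧸ Submodule.span K (Set.range v) :=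
    fun l => (Submodule.span K (Set.range v)).mkQ (e l)
  obtain ⟨κ, σ, hσ, hspan, hind⟩ := exists_linearIndependent' K ebar
  haveI : Fintype κ := Fintype.ofInjective σ hσ
  have htop : Submodule.span K (Set.range ebar) = ⊤ := by
    rw [show ebar = (Submodule.span K (Set.range v)).mkQ ∘ e from rfl, Set.range_comp, ← Submodule.map_span]
    have : Submodule.span K (Set.range e) = ⊤ := by
      rw [show e = ⇑(Pi.basisFun K (Fin n)) from funext fun l => (Pi.basisFun_apply K (Fin n) l).symm]
      exact (Pi.basisFun K (Fin n)).span_eq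
    rw [this, Submodule.map_top, Submodule.range_mkQ]
  have hcard : Fintype.card κ + r = n := by
    have h3 := finrank_span_eq_card hind
    rw [hspan, htop, finrank_top] at h3
    have h2 := (Submodule.span K (Set.range v)).finrank_quotient_add_finrank
    rw [h3, finrank_span_eq_card hv, Fintype.card_fin, Module.finrank_fin_fun] at h2
    exact h2
  refine ⟨Finset.univ.map ⟨σ, hσ⟩, by simp [hcard], fun l => ?_⟩
  have hmem : ebar l ∈ Submodule.span K (Set.range (ebar ∘ σ)) := by
    rw [hspan, htop]; trivial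
  obtain ⟨b, hb⟩ := (Submodule.mem_span_range_iff_exists_fun K).1 hmem
  have hdiff : e l - ∑ t, b t • e (σ t) ∈ Submodule.span K (Set.range v) := by
    rw [← Submodule.Quotient.mk_eq_zero, ← Submodule.mkQ_apply, map_sub, map_sum]
    simp only [map_smul]
    exact sub_eq_zero.2 hb.symm
  obtain ⟨a, ha⟩ := (Submodule.mem_span_range_iff_exists_fun K).1 hdiff
  refine ⟨a, Function.extend σ b 0, ?_⟩
  rw [ha, Finset.sum_map]
  simp only [Function.Embedding.coeFn_mk, hσ.extend_apply, e, sub_add_cancel]

/-- The Nakayama step of `exists_gens`. -/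
theorem local_le {O : Type u} [CommRing O] [IsLocalRing O] {r n : ℕ} (f : Fin r → O) (h : Fin n → O)
    (c : Fin r → Fin n → O) (hf : ∀ k, f k = ∑ l, c k l * h l) (T : Finset (Fin n))
    (hT : ∀ l, ∃ (a : Fin r → IsLocalRing.ResidueField O) (b : Fin n → IsLocalRing.ResidueField O),
      (Pi.single l 1 : Fin n → IsLocalRing.ResidueField O) =
        (∑ k, a k • fun i => IsLocalRing.residue O (c k i)) + ∑ t ∈ T, b t • Pi.single t 1) :
    Ideal.span (Set.range h) ≤ Ideal.span (h '' T) ⊔ Ideal.span (Set.range f) := by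
  classical
  let Φ : (Fin n → O) →ₗ[O] O := Fintype.linearCombination O h
  have hΦ : ∀ w : Fin n → O, (∀ i, w i ∈ IsLocalRing.maximalIdeal O) →
      Φ w ∈ IsLocalRing.maximalIdeal O • Ideal.span (Set.range h) := fun w hw => by
    rw [Fintype.linearCombination_apply]
    exact Ideal.sum_mem _ fun i _ => Submodule.smul_mem_smul (hw i) (Ideal.subset_span ⟨i, rfl⟩)
  have hΦv : ∀ k, Φ (c k) = f k := fun k => by
    rw [Fintype.linearCombination_apply, hf]
    simp
  have hΦe : ∀ l, Φ (Pi.single l 1) = h l := fun l => by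
    simp [Φ, Fintype.linearCombination_apply_single]
  refine Submodule.le_of_le_smul_of_le_jacobson_bot (I := IsLocalRing.maximalIdeal O)
    ⟨Finset.univ.image h, by simp⟩ (IsLocalRing.maximalIdeal_le_jacobson ⊥) (Ideal.span_le.2 ?_)
  rintro _ ⟨l, rfl⟩
  obtain ⟨a, b, hab⟩ := hT l
  choose a' ha' using fun k => IsLocalRing.residue_surjective (a k)
  choose b' hb' using fun t => IsLocalRing.residue_surjective (b t)
  let w : Fin n → O := Pi.single l 1 - ((∑ k, a' k • c k) + ∑ t ∈ T, b' t • Pi.single t 1)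
  have hw : ∀ i, w i ∈ IsLocalRing.maximalIdeal O := fun i => by
    rw [← IsLocalRing.residue_eq_zero_iff]
    have := congrFun hab i
    simp only [Finset.sum_apply, Pi.add_apply, Pi.smul_apply, smul_eq_mul, Pi.single_apply] at this
    simp only [w, Finset.sum_apply, Pi.sub_apply, Pi.add_apply, Pi.smul_apply, smul_eq_mul, Pi.single_apply, map_sub,
      map_add, map_sum, map_mul, ha', hb', apply_ite (IsLocalRing.residue O), map_one, map_zero]
    exact sub_eq_zero.2 this
  have h0 : h l = ((∑ k, a' k * f k) + ∑ t ∈ T, b' t * h t) + Φ w := by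
    simp only [w, map_sub, map_add, map_sum, map_smul, hΦe, hΦv, smul_eq_mul]
    ring
  rw [h0]
  refine Submodule.add_mem_sup (add_mem ?_ ?_) (hΦ w hw)
  · exact Ideal.sum_mem _ fun k _ => Ideal.mul_mem_left _ _ (Ideal.mem_sup_right (Ideal.subset_span ⟨k, rfl⟩))
  · exact Ideal.sum_mem _ fun t ht => Ideal.mul_mem_left _ _ (Ideal.mem_sup_left (Ideal.subset_span ⟨t, ht, rfl⟩))

/-- If the elements `f k` of the ideal generated by the `h l` have coefficient rows admitting a right inverse
modulo a prime `P` over that ideal, then the ideal is generated near `P` by the `f k` and at most `n - r`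
of the `h l`. -/
theorem exists_gens {A : Type u} [CommRing A] (P : Ideal A) [P.IsPrime] {r n : ℕ} (f : Fin r → A) (h : Fin n → A)
    (c : Fin r → Fin n → A) (d : Fin n → Fin r → A)
    (hf : ∀ k, f k = ∑ l, c k l * h l)
    (hcd : ∀ k m, (∑ l, c k l * d l m) - (if k = m then 1 else 0) ∈ P) :
    ∃ (g : List A) (s : A), s ∉ P ∧ g.length + r ≤ n ∧ (∀ x ∈ g, x ∈ Ideal.span (Set.range h)) ∧
      ∀ l, s * h l ∈ Ideal.ofList g ⊔ Ideal.span (Set.range f) := by
  classical
  let ψ : A →+* Localization.AtPrime P := algebraMap A _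
  let φ : A →+* IsLocalRing.ResidueField (Localization.AtPrime P) := (IsLocalRing.residue _).comp ψ
  have hφ : ∀ a ∈ P, φ a = 0 := fun a ha => by
    show IsLocalRing.residue _ (ψ a) = 0
    rw [IsLocalRing.residue_eq_zero_iff]
    exact (IsLocalization.AtPrime.to_map_mem_maximal_iff _ P a).2 ha
  obtain ⟨T, hcard, hT⟩ := exists_complement (fun k l => φ (c k l)) (fun l m => φ (d l m)) (fun k m => by
    have := hφ _ (hcd k m)
    rw [map_sub, map_sum, sub_eq_zero] at this
    simp only [← map_mul]
    rw [this]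
    split <;> simp)
  have hle := local_le (fun k => ψ (f k)) (fun l => ψ (h l)) (fun k l => ψ (c k l))
    (fun k => by rw [hf, map_sum]; simp) T hT
  let g : List A := T.toList.map h
  let L : Ideal A := Ideal.ofList g ⊔ Ideal.span (Set.range f)
  have hsub : Ideal.span ((fun l => ψ (h l)) '' T) ⊔ Ideal.span (Set.range fun k => ψ (f k)) ≤ L.map ψ := by
    refine sup_le (Ideal.span_le.2 ?_) (Ideal.span_le.2 ?_)
    · rintro _ ⟨t, ht, rfl⟩
      exact Ideal.mem_map_of_mem ψ (Ideal.mem_sup_left (Ideal.subset_span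
        (List.mem_map.2 ⟨t, Finset.mem_toList.2 ht, rfl⟩)))
    · rintro _ ⟨k, rfl⟩
      exact Ideal.mem_map_of_mem ψ (Ideal.mem_sup_right (Ideal.subset_span ⟨k, rfl⟩))
  have hden : ∀ l, ∃ s : P.primeCompl, (s : A) * h l ∈ L := fun l => by
    have h1 : ψ (h l) ∈ L.map ψ := hsub (hle (Ideal.subset_span ⟨l, rfl⟩))
    rw [IsLocalization.algebraMap_mem_map_algebraMap_iff P.primeCompl] at h1
    obtain ⟨s, hs, hs'⟩ := h1
    exact ⟨⟨s, hs⟩, hs'⟩
  choose s hs using hden
  refine ⟨g, ((∏ l, s l : P.primeCompl) : A), (∏ l, s l : P.primeCompl).2, by simpa [g] using hcard, ?_, fun l => ?_⟩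
  · intro x hx
    obtain ⟨t, -, rfl⟩ := List.mem_map.1 hx
    exact Ideal.subset_span ⟨_, rfl⟩
  · rw [← Finset.mul_prod_erase Finset.univ s (Finset.mem_univ l), Submonoid.coe_mul, mul_right_comm]
    exact Ideal.mul_mem_right _ _ (hs l)

end Groth.Agent.ConormalSplitLib
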