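import Mathlib
import Groth.Agent.ConormalLib.Trans
import Groth.Agent.RelDivLib.FlatBC
import Groth.Agent.RelDivLib.ImmBC
import Groth.Agent.ConormalSplitLib.Ring

/-!
# A split conormal sequence on charts
-/

set_option autoImplicit false
set_option backward.isDefEq.respectTransparency false
set_option backward.defeqAttrib.useBackward true
set_option linter.style.haveILetI false
set_option maxHeartbeats 1000000

universe u

open CategoryTheory CategoryTheory.Limits AlgebraicGeometry TopologicalSpace Opposite Groth.Agent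

namespace Groth.Agent.ConormalSplitLib

/-- A retraction over an open gives linear retractions on the sections over smaller opens. -/
theorem exists_retraction {Z : Scheme.{u}} {N M : Z.Modules} (φ : N ⟶ M) {U : Z.Opens}
    (ρ : (Scheme.Modules.restrictFunctor U.ι).obj M ⟶ (Scheme.Modules.restrictFunctor U.ι).obj N)
    (hρ : (Scheme.Modules.restrictFunctor U.ι).map φ ≫ ρ = 𝟙 _) {W : Z.Opens} (hW : W ≤ U) :
    ∃ R : Γ(M, W) →ₗ[Γ(Z, W)] Γ(N, W), ∀ x, R (φ.app W x) = x := by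
  have key : ∀ V : U.toScheme.Opens, ∃ R : Γ(M, U.ι ''ᵁ V) →ₗ[Γ(Z, U.ι ''ᵁ V)] Γ(N, U.ι ''ᵁ V),
      ∀ x, R (φ.app _ x) = x := by
    intro V
    refine ⟨{ toFun := fun x => ρ.app V x, map_add' := fun x y => map_add _ _ _, map_smul' := fun t x => ?_ },
      fun x => congr($(hρ).app V x)⟩
    obtain ⟨t, rfl⟩ := (ConcreteCategory.bijective_of_isIso (U.ι.appIso V).inv).2 t
    exact Scheme.Modules.Hom.app_smul ρ t x
  have h := key (U.ι ⁻¹ᵁ W)
  rwa [Scheme.Hom.image_preimage_eq_opensRange_inf, Scheme.Opens.opensRange_ι, inf_eq_right.2 hW] at h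

variable {X Y Z : Scheme.{u}} {j : Z ⟶ Y} {i : Y ⟶ X} [QuasiCompact j] [QuasiCompact i] {U : X.Opens}
  (T : ConormalLib.Tower j i U)

/-- The class in `j^* C_{Y/X}` of a section of the ideal of `Y`. -/
noncomputable abbrev pp (U : X.Opens) (x : Γ(ClSub.idealMod i.ker, U)) :
    Γ((Scheme.Modules.pullback j).obj (Omega.conormal i), j ⁻¹ᵁ (i ⁻¹ᵁ U)) :=
  PullbackMod.pullMap j (Omega.conormal i) (W := i ⁻¹ᵁ U) (W' := j ⁻¹ᵁ (i ⁻¹ᵁ U)) le_rfl
    (PullbackMod.pullMap i (ClSub.idealMod i.ker) (W := U) (W' := i ⁻¹ᵁ U) le_rfl x)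

omit [QuasiCompact j] [QuasiCompact i] in
theorem pp_add (x y : Γ(ClSub.idealMod i.ker, U)) : pp (j := j) U (x + y) = pp U x + pp U y := by
  simp only [pp, map_add]

omit [QuasiCompact j] [QuasiCompact i] in
theorem pp_smul (e : Γ(X, U)) (x : Γ(ClSub.idealMod i.ker, U)) :
    pp (j := j) U (e • x) = j.app (i ⁻¹ᵁ U) (i.app U e) • pp (j := j) U x := by
  refine (congrArg (PullbackMod.pullMap j (Omega.conormal i) (W := i ⁻¹ᵁ U) (W' := j ⁻¹ᵁ (i ⁻¹ᵁ U)) le_rfl)
    (PullbackMod.pullMap_smul i (ClSub.idealMod i.ker) le_rfl e x)).trans ?_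
  refine (PullbackMod.pullMap_smul j (Omega.conormal i) le_rfl _ _).trans ?_
  rw [← Scheme.Hom.app_eq_appLE, ← Scheme.Hom.app_eq_appLE]

omit [QuasiCompact j] [QuasiCompact i] in
theorem pp_sum_smul {ι : Type*} [Fintype ι] (e : ι → Γ(X, U)) (x : ι → Γ(ClSub.idealMod i.ker, U)) :
    pp (j := j) U (∑ t, e t • x t) = ∑ t, j.app (i ⁻¹ᵁ U) (i.app U (e t)) • pp (j := j) U (x t) := by
  simp only [pp, map_sum]
  exact Finset.sum_congr rfl fun t _ => pp_smul _ _

include T in
/-- An ideal section with vanishing class in `j^* C_{Y/X}` lies in `J I`. -/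
theorem mem_mul_of_pp_eq_zero (x : Γ(ClSub.idealMod i.ker, U)) (hx : pp (j := j) U x = 0) :
    OmegaSh.idealSect i.ker U x ∈ RingHom.ker ((j ≫ i).app U).hom * RingHom.ker (i.app U).hom := by
  haveI := OmegaAffLib.isQCoh_idealMod i.ker
  haveI : Coh.IsQCoh (Omega.conormal i) := PullbackMod.isQCoh_pullback i (ClSub.idealMod i.ker)
  obtain ⟨hsurj, hzero⟩ := ConormalLib.cls_surjective_and_eq_zero_iff i T.affU T.affY T.surjY
  have h1 := ((ConormalLib.pullMap_surjective_and_eq_zero_iff j T.affY T.affW T.surjW (Omega.conormal i)).2 _).1 hx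
  have key : ∀ c ∈ (RingHom.ker (j.app (i ⁻¹ᵁ U)).hom • ⊤ : Submodule Γ(Y, i ⁻¹ᵁ U) Γ(Omega.conormal i, i ⁻¹ᵁ U)),
      ∃ m, PullbackMod.pullMap i (ClSub.idealMod i.ker) (W := U) (W' := i ⁻¹ᵁ U) le_rfl m = c ∧
        OmegaSh.idealSect i.ker U m ∈ RingHom.ker ((j ≫ i).app U).hom * RingHom.ker (i.app U).hom := by
    intro c hc
    refine Submodule.smul_induction_on hc (fun q hq m' _ => ?_) (fun c₁ c₂ ih₁ ih₂ => ?_)
    · obtain ⟨p, rfl⟩ := T.surjY q
      obtain ⟨m, rfl⟩ := hsurj m'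
      refine ⟨p • m, ?_, ?_⟩
      · refine (PullbackMod.pullMap_smul i (ClSub.idealMod i.ker) le_rfl p m).trans ?_
        rw [← Scheme.Hom.app_eq_appLE]
      · rw [OmegaAffLib.idealSect_smul]
        exact Ideal.mul_mem_mul hq (ConormalLib.app_idealSect i U m)
    · obtain ⟨m₁, rfl, hm₁⟩ := ih₁
      obtain ⟨m₂, rfl, hm₂⟩ := ih₂
      exact ⟨m₁ + m₂, map_add _ _ _, by rw [map_add]; exact add_mem hm₁ hm₂⟩
  obtain ⟨m, hm, hm'⟩ := key _ h1
  have h2 := (hzero (x - m)).1 (by rw [map_sub, sub_eq_zero]; exact hm.symm)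
  rw [map_sub] at h2
  have hle : RingHom.ker (i.app U).hom * RingHom.ker (i.app U).hom ≤
      RingHom.ker ((j ≫ i).app U).hom * RingHom.ker (i.app U).hom := Ideal.mul_mono_left fun p hp => by
    show j.app (i ⁻¹ᵁ U) (i.app U p) = 0
    rw [show i.app U p = 0 from hp, map_zero]
  simpa using add_mem (hle h2) hm'

variable {a : (Scheme.Modules.pullback j).obj (Omega.conormal i) ⟶ Omega.conormal (j ≫ i)}
  (ha : OmegaSh.IsConormalMap (j ≫ i) i (𝟙 X) j a)

include T ha in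
/-- A retraction of the first map of the transitivity sequence gives a right inverse of the coefficient matrix. -/
theorem exists_coeff (R : Γ(Omega.conormal (j ≫ i), j ⁻¹ᵁ (i ⁻¹ᵁ U)) →ₗ[Γ(Z, j ⁻¹ᵁ (i ⁻¹ᵁ U))]
      Γ((Scheme.Modules.pullback j).obj (Omega.conormal i), j ⁻¹ᵁ (i ⁻¹ᵁ U)))
    (hR : ∀ x, R (a.app _ x) = x) {r n : ℕ} {f : Fin r → Γ(X, U)} {h : Fin n → Γ(X, U)}
    (hf : CAlgX.IsH1Regular f) (hkf : RingHom.ker (i.app U).hom = Ideal.span (Set.range f))
    (hkh : RingHom.ker ((j ≫ i).app U).hom = Ideal.span (Set.range h)) :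
    ∃ (c : Fin r → Fin n → Γ(X, U)) (d : Fin n → Fin r → Γ(X, U)), (∀ k, f k = ∑ l, c k l * h l) ∧
      ∀ k m, (∑ l, c k l * d l m) - (if k = m then 1 else 0) ∈ RingHom.ker ((j ≫ i).app U).hom := by
  classical
  have hle : RingHom.ker (i.app U).hom ≤ RingHom.ker ((j ≫ i).app U).hom := fun p hp => by
    show j.app (i ⁻¹ᵁ U) (i.app U p) = 0
    rw [show i.app U p = 0 from hp, map_zero]
  choose mf hmf using fun k => ConormalLib.exists_idealSect_eq i U (f k) (by
    rw [← RingHom.mem_ker, hkf]; exact Ideal.subset_span ⟨k, rfl⟩)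
  choose nh hnh using fun l => ConormalLib.exists_idealSect_eq (j ≫ i) U (h l) (by
    rw [← RingHom.mem_ker, hkh]; exact Ideal.subset_span ⟨l, rfl⟩)
  choose c hc using fun k => (Ideal.mem_span_range_iff_exists_fun (v := h) (x := f k)).1 (by
    rw [← hkh]; exact hle (by rw [hkf]; exact Ideal.subset_span ⟨k, rfl⟩))
  let cl : Γ(ClSub.idealMod (j ≫ i).ker, U) → Γ(Omega.conormal (j ≫ i), j ⁻¹ᵁ (i ⁻¹ᵁ U)) :=
    PullbackMod.pullMap (j ≫ i) (ClSub.idealMod (j ≫ i).ker) (W := U) (W' := j ⁻¹ᵁ (i ⁻¹ᵁ U)) le_rfl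
  choose x hx using fun l => T.exists_gen (R (cl (nh l)))
  choose d hd using fun l => (Ideal.mem_span_range_iff_exists_fun (v := f)
    (x := OmegaSh.idealSect i.ker U (x l))).1 (by rw [← hkf]; exact ConormalLib.app_idealSect i U (x l))
  refine ⟨c, d, fun k => (hc k).symm, fun k m => ?_⟩
  obtain ⟨s, hs, he⟩ := ConormalLib.Tower.exists_a_apply ha (mf k)
  have hsum : s = ∑ l, c k l • nh l := OmegaAffLib.idealSect_injective _ U (by
    rw [hs, hmf, map_sum, ← hc k]
    exact Finset.sum_congr rfl fun l _ => by rw [OmegaAffLib.idealSect_smul, hnh])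
  have hpp : pp (j := j) U (∑ l, c k l • x l) = pp (j := j) U (mf k) := by
    rw [pp_sum_smul]
    refine Eq.trans ?_ ((congrArg R he).symm.trans (hR _))
    rw [hsum, map_sum, map_sum]
    refine Finset.sum_congr rfl fun l _ => ?_
    rw [show pp (j := j) U (x l) = R (cl (nh l)) from (hx l).symm]
    refine (LinearMap.map_smul R _ _).symm.trans ?_
    refine congrArg R ?_
    refine Eq.trans ?_ (PullbackMod.pullMap_smul (j ≫ i) (ClSub.idealMod (j ≫ i).ker) le_rfl (c k l) (nh l)).symm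
    rw [← Scheme.Hom.app_eq_appLE]
    rfl
  have h0 : pp (j := j) U (∑ l, c k l • x l - mf k) = 0 := by
    rw [pp, map_sub, map_sub, sub_eq_zero]
    exact hpp
  have h1 := mem_mul_of_pp_eq_zero T _ h0
  let e : Fin r → Γ(X, U) := fun m => (∑ l, c k l * d l m) - (if k = m then 1 else 0)
  have he' : OmegaSh.idealSect i.ker U (∑ l, c k l • x l - mf k) = ∑ m, e m * f m := by
    rw [map_sub, map_sum, hmf]
    simp only [e, sub_mul, Finset.sum_sub_distrib, Finset.sum_mul, ite_mul, one_mul, zero_mul,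
      Finset.sum_ite_eq, Finset.mem_univ, if_true]
    rw [Finset.sum_comm]
    congr 1
    refine Finset.sum_congr rfl fun l _ => ?_
    rw [OmegaAffLib.idealSect_smul, ← hd l, Finset.mul_sum]
    simp only [mul_assoc]
  rw [he', hkf] at h1
  obtain ⟨b, hb, hbe⟩ := (Submodule.mem_ideal_smul_span_iff_exists_sum (R := Γ(X, U)) _ f _).1 h1
  rw [Finsupp.sum_fintype b (fun i c => c • f i) (fun i => zero_smul _ (f i))] at hbe
  have h2 := ConormalLib.coeff_mem_of_h1 hf (fun m => e m - b m) (by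
    simp only [sub_mul, Finset.sum_sub_distrib]
    rw [← hbe]
    simp [smul_eq_mul]) m
  have h3 := hle (hkf.symm ▸ h2)
  have h4 := add_mem h3 (hb m)
  rwa [sub_add_cancel] at h4

end Groth.Agent.ConormalSplitLib
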